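import Groth.Agent.L15.Galois.Rank
import Mathlib.RingTheory.HopfAlgebra.Quotient
import Mathlib.RingTheory.Flat.Basic

/-!
# Surjective homomorphisms of Hopf algebras; split faithfully flat extensions
-/

set_option autoImplicit false

universe u v w

open TensorProduct WithConv

noncomputable section

namespace Groth.L15.Galois

variable {R : Type u} [CommRing R] {A : Type v} {C : Type w} [CommRing A] [HopfAlgebra R A] [CommRing C] [HopfAlgebra R C]

theorem antipode_comp (F : A →ₐc[R] C) :
    HopfAlgebraStruct.antipode (R := R) ∘ₗ F.toCoalgHom.toLinearMap =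
      F.toCoalgHom.toLinearMap ∘ₗ HopfAlgebraStruct.antipode (R := R) := by
  let S := HopfAlgebraStruct.antipode (R := R) (A := A)
  let S' := HopfAlgebraStruct.antipode (R := R) (A := C)
  let p := F.toCoalgHom.toLinearMap
  have h1 : toConv (p ∘ₗ S) * toConv p = 1 := by
    apply ofConv_injective
    calc (toConv (p ∘ₗ S) * toConv p).ofConv
        = (AlgHomClass.toAlgHom F).toLinearMap ∘ₗ (toConv S * toConv .id : WithConv (A →ₗ[R] A)).ofConv := by
          rw [LinearMap.algHom_comp_convMul_distrib]; rfl
      _ = (1 : WithConv (A →ₗ[R] C)).ofConv := by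
          rw [LinearMap.antipode_mul_id, LinearMap.algHom_comp_convOne]
  have h2 : toConv p * toConv (S' ∘ₗ p) = 1 := by
    apply ofConv_injective
    calc (toConv p * toConv (S' ∘ₗ p)).ofConv
        = (toConv .id * toConv S' : WithConv (C →ₗ[R] C)).ofConv ∘ₗ F.toCoalgHom.toLinearMap := by
          rw [LinearMap.convMul_comp_coalgHom_distrib]; rfl
      _ = (1 : WithConv (A →ₗ[R] C)).ofConv := by
          rw [LinearMap.id_mul_antipode]; exact LinearMap.convOne_comp_coalgHom _
  exact (toConv_injective (left_inv_eq_right_inv h1 h2)).symm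

theorem isHopfIdeal_ker (F : A →ₐc[R] C) (hF : Function.Surjective F) :
    (RingHom.ker (F : A →ₐ[R] C)).IsHopfIdeal R := by
  let K : Ideal A := RingHom.ker (F : A →ₐ[R] C)
  let p : A →ₗ[R] C := (F : A →ₗ[R] C)
  let e : (A ⧸ K.restrictScalars R) →ₗ[R] C := (K.restrictScalars R).liftQ p fun _ h => h
  have he : Function.Bijective e := by
    refine ⟨LinearMap.ker_eq_bot.mp (Submodule.ker_liftQ_eq_bot _ _ _ fun x hx => hx), fun c => ?_⟩
    obtain ⟨a, rfl⟩ := hF c
    exact ⟨Submodule.Quotient.mk a, rfl⟩
  let E := LinearEquiv.ofBijective e he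
  refine { counit_eq_zero := fun x hx => ?_, map_mkQ_comul_eq_zero := fun x hx => ?_, antipode_mem := fun x hx => ?_ }
  · rw [← CoalgHomClass.counit_comp_apply F x, show F x = 0 from hx, map_zero]
  · apply (TensorProduct.congr E E).injective
    rw [map_zero]
    have key : ∀ z : A ⊗[R] A, TensorProduct.congr E E (TensorProduct.map (K.restrictScalars R).mkQ
        (K.restrictScalars R).mkQ z) = TensorProduct.map (F : A →ₗ[R] C) (F : A →ₗ[R] C) z := fun z => by
      induction z using TensorProduct.induction_on with
      | zero => simp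
      | add a b ha hb => simp only [map_add, ha, hb]
      | tmul a b => rfl
    refine (key _).trans ?_
    rw [CoalgHomClass.map_comp_comul_apply, show F x = 0 from hx, map_zero]
  · show F (HopfAlgebraStruct.antipode (R := R) x) = 0
    have := LinearMap.congr_fun (antipode_comp F) x
    simp only [LinearMap.comp_apply] at this
    rw [show F (HopfAlgebraStruct.antipode (R := R) x) = F.toCoalgHom.toLinearMap (HopfAlgebraStruct.antipode (R := R) x)
      from rfl, ← this, show F.toCoalgHom.toLinearMap x = F x from rfl, show F x = 0 from hx, map_zero]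

/-- the coinvariants of a homomorphism -/
abbrev coactHom (F : A →ₐc[R] C) : A →ₐ[R] A ⊗[R] C :=
  (Algebra.TensorProduct.map (AlgHom.id R A) (F : A →ₐ[R] C)).comp (Bialgebra.comulAlgHom R A)

/-- For a surjection `F` onto a finite projective Hopf algebra, `A` is faithfully flat over the coinvariants and
`ker F` is generated by their augmentation ideal. -/
theorem main_hom (F : A →ₐc[R] C) (hF : Function.Surjective F) [Module.Finite R C] [Module.Projective R C] :
    Module.FaithfullyFlat (coinv (coactHom F)) A ∧
      RingHom.ker (F : A →ₐ[R] C) =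
        Ideal.span {a : A | a ∈ coinv (coactHom F) ∧ Coalgebra.counit (R := R) a = 0} := by
  let K : Ideal A := RingHom.ker (F : A →ₐ[R] C)
  haveI : K.IsHopfIdeal R := isHopfIdeal_ker F hF
  let E : (A ⧸ K) ≃ₐ[R] C := Ideal.quotientKerAlgEquivOfSurjective (f := (F : A →ₐ[R] C)) hF
  haveI : Module.Finite R (A ⧸ K) := Module.Finite.equiv E.symm.toLinearEquiv
  haveI : Module.Projective R (A ⧸ K) := Module.Projective.of_equiv E.symm.toLinearEquiv
  have hB : coinv (coactHom F) = coinv (coact R A K) := by
    ext a
    simp only [AlgHom.mem_equalizer]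
    have key : ∀ z : A ⊗[R] A, Algebra.TensorProduct.map (AlgHom.id R A) (F : A →ₐ[R] C) z =
        E.toLinearEquiv.lTensor A (Algebra.TensorProduct.map (AlgHom.id R A) (Ideal.Quotient.mkₐ R K) z) := fun z => by
      induction z using TensorProduct.induction_on with
      | zero => simp
      | add a b ha hb => simp only [map_add, ha, hb]
      | tmul a b => rfl
    have h1 : coactHom F a = E.toLinearEquiv.lTensor A (coact R A K a) := key _
    have h2 : (Algebra.TensorProduct.includeLeft : A →ₐ[R] A ⊗[R] C) a =
        E.toLinearEquiv.lTensor A ((Algebra.TensorProduct.includeLeft : A →ₐ[R] A ⊗[R] (A ⧸ K)) a) := by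
      show a ⊗ₜ[R] (1 : C) = a ⊗ₜ[R] E 1
      rw [map_one]
    rw [h1, h2]
    exact (E.toLinearEquiv.lTensor A).injective.eq_iff
  refine ⟨?_, by rw [hB]; exact eq_span R A K⟩
  rw [hB]
  exact (main R A K).2.2.1

omit [HopfAlgebra R A] [HopfAlgebra R C] in
/-- a faithfully flat finite projective algebra splits as a module -/
theorem exists_retraction [Algebra C A] [Module.FaithfullyFlat C A] [Module.Finite C A] [Module.Projective C A] :
    ∃ r : A →ₗ[C] C, r 1 = 1 := by
  obtain ⟨n, b, hb⟩ := Module.Finite.exists_fin' C A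
  obtain ⟨s, hs⟩ := Module.projective_lifting_property b LinearMap.id hb
  let ev : (A →ₗ[C] C) →ₗ[C] C := LinearMap.applyₗ (1 : A)
  suffices hJ : LinearMap.range ev = (⊤ : Submodule C C) by
    obtain ⟨r, hr⟩ := LinearMap.range_eq_top.mp hJ 1
    exact ⟨r, hr⟩
  by_contra hne
  obtain ⟨m, hm, hle⟩ := Ideal.exists_le_maximal (LinearMap.range ev : Ideal C) hne
  refine Module.FaithfullyFlat.submodule_ne_top (M := A) hm ?_
  have h1 : (1 : A) ∈ m • (⊤ : Submodule C A) := by
    have h := LinearMap.congr_fun hs (1 : A)
    rw [LinearMap.comp_apply, LinearMap.id_apply, pi_eq_sum_univ' (s 1), map_sum] at h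
    rw [← h]
    refine sum_mem fun i _ => ?_
    rw [map_smul]
    exact Submodule.smul_mem_smul (hle ⟨LinearMap.proj i ∘ₗ s, rfl⟩) Submodule.mem_top
  rw [Ideal.smul_top_eq_map, Submodule.restrictScalars_mem] at h1
  rw [Ideal.smul_top_eq_map, (Ideal.eq_top_iff_one _).mpr h1]
  rfl

end Groth.L15.Galois
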