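import Mathlib.RingTheory.HopfAlgebra.Basic
import Mathlib.RingTheory.TensorProduct.Maps
import Mathlib.Algebra.Module.Projective
import Mathlib.LinearAlgebra.Dimension.Finite
import Mathlib.LinearAlgebra.Finsupp.VectorSpace
import Mathlib.RingTheory.Finiteness.Basic

/-!
# Integrals of a finite projective commutative Hopf algebra

With a dual basis `(b i, bs i)` of `C`, the traces `θ_f : x ↦ tr (y ↦ x y₁ f(y₂))` are integrals, and they
reconstruct the counit: `ε x = ∑ i, θ_(bs i) (x S(b i))`.
-/

set_option autoImplicit false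

open TensorProduct Coalgebra

noncomputable section

namespace Groth.L15.Galois

variable {R C : Type*} [CommRing R] [CommRing C] [HopfAlgebra R C]

/-- `x ↦ x₁ f(x₂)` -/
def hit (f : C →ₗ[R] R) : C →ₗ[R] C :=
  (TensorProduct.rid R C).toLinearMap ∘ₗ f.lTensor C ∘ₗ Coalgebra.comul

theorem hit_apply (f : C →ₗ[R] R) (x : C) :
    hit f x = TensorProduct.rid R C (f.lTensor C (Coalgebra.comul x)) := rfl

theorem comul_hit (f : C →ₗ[R] R) (x : C) :
    Coalgebra.comul (hit f x) = (hit f).lTensor C (Coalgebra.comul (R := R) x) := by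
  let G : C ⊗[R] (C ⊗[R] C) →ₗ[R] C ⊗[R] C := ((TensorProduct.rid R C).toLinearMap ∘ₗ f.lTensor C).lTensor C
  have h1 : ∀ z : C ⊗[R] C, Coalgebra.comul (TensorProduct.rid R C (f.lTensor C z)) =
      G (TensorProduct.assoc R C C C ((Coalgebra.comul (R := R) (A := C)).rTensor C z)) := by
    intro z
    induction z using TensorProduct.induction_on with
    | zero => simp
    | add a b ha hb => simp only [map_add, ha, hb]
    | tmul u v =>
      simp only [LinearMap.lTensor_tmul, rid_tmul, map_smul, LinearMap.rTensor_tmul]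
      induction Coalgebra.comul (R := R) u using TensorProduct.induction_on with
      | zero => simp
      | add a b ha hb => simp only [smul_add, add_tmul, map_add, ha, hb]
      | tmul p q =>
        simp only [assoc_tmul, G, LinearMap.lTensor_tmul, LinearMap.comp_apply, LinearEquiv.coe_coe, rid_tmul,
          TensorProduct.tmul_smul]
  have h2 : ∀ z : C ⊗[R] C, (hit f).lTensor C z = G ((Coalgebra.comul (R := R) (A := C)).lTensor C z) := by
    intro z
    induction z using TensorProduct.induction_on with
    | zero => simp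
    | add a b ha hb => simp only [map_add, ha, hb]
    | tmul u v => rfl
  rw [hit_apply, h1, h2, Coalgebra.coassoc_apply]

variable {ι : Type*} [Fintype ι] (b : ι → C) (bs : ι → C →ₗ[R] R)

/-- the integral attached to `f` -/
def theta (f : C →ₗ[R] R) : C →ₗ[R] R where
  toFun x := ∑ i, bs i (x * hit f (b i))
  map_add' x y := by simp only [add_mul, map_add, Finset.sum_add_distrib]
  map_smul' r x := by simp only [smul_mul_assoc, map_smul, smul_eq_mul, RingHom.id_apply, Finset.mul_sum]

theorem theta_apply (f : C →ₗ[R] R) (x : C) : theta b bs f x = ∑ i, bs i (x * hit f (b i)) := rfl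

variable (hb : ∀ y, ∑ i, bs i y • b i = y)

section Trace

/-- coefficient on `1 ⊗ b i` -/
def coef (i : ι) : C ⊗[R] C →ₗ[C] C :=
  (Algebra.TensorProduct.rid R C C).toLinearMap ∘ₗ (bs i).baseChange C

theorem coef_tmul (i : ι) (u v : C) : coef bs i (u ⊗ₜ v) = bs i v • u := by
  simp [coef]

include hb in
theorem expand (z : C ⊗[R] C) : z = ∑ i, coef bs i z • ((1 : C) ⊗ₜ[R] b i) := by
  induction z using TensorProduct.induction_on with
  | zero => simp
  | add x y hx hy => simp only [map_add, add_smul, Finset.sum_add_distrib, ← hx, ← hy]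
  | tmul u v =>
    conv_lhs => rw [← hb v, tmul_sum]
    refine Finset.sum_congr rfl fun i _ => ?_
    rw [coef_tmul, TensorProduct.smul_tmul', smul_eq_mul, smul_mul_assoc, _root_.mul_one,
      TensorProduct.tmul_smul, ← TensorProduct.smul_tmul']

/-- trace of an endomorphism of `C ⊗ C` over the left factor -/
def tr (P : C ⊗[R] C →ₗ[C] C ⊗[R] C) : C := ∑ i, coef bs i (P ((1 : C) ⊗ₜ b i))

include hb in
theorem tr_comm (P Q : C ⊗[R] C →ₗ[C] C ⊗[R] C) : tr b bs (P ∘ₗ Q) = tr b bs (Q ∘ₗ P) := by
  have key : ∀ (P Q : C ⊗[R] C →ₗ[C] C ⊗[R] C), tr b bs (P ∘ₗ Q) =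
      ∑ i, ∑ j, coef bs j (Q ((1 : C) ⊗ₜ b i)) * coef bs i (P ((1 : C) ⊗ₜ b j)) := fun P Q => by
    refine Finset.sum_congr rfl fun i _ => ?_
    conv_lhs => rw [LinearMap.comp_apply, expand b bs hb (Q ((1 : C) ⊗ₜ b i)), map_sum, map_sum]
    simp only [map_smul, smul_eq_mul]
  rw [key, key, Finset.sum_comm]
  exact Finset.sum_congr rfl fun i _ => Finset.sum_congr rfl fun j _ => mul_comm _ _

theorem tr_baseChange (F : C →ₗ[R] C) : tr b bs (F.baseChange C) = algebraMap R C (∑ i, bs i (F (b i))) := by
  simp only [tr, LinearMap.baseChange_tmul, coef_tmul, map_sum, Algebra.algebraMap_eq_smul_one]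

end Trace

section Shear

/-- `c ⊗ y ↦ c f(y₁) ⊗ y₂` -/
def shear (f : C →ₗ[R] C) : C ⊗[R] C →ₗ[C] C ⊗[R] C :=
  TensorProduct.AlgebraTensorModule.lift
    ((LinearMap.ringLmapEquivSelf C C (C →ₗ[R] C ⊗[R] C)).symm (f.rTensor C ∘ₗ Coalgebra.comul))

theorem shear_tmul (f : C →ₗ[R] C) (u v : C) :
    shear f (u ⊗ₜ v) = (u ⊗ₜ (1 : C)) * f.rTensor C (Coalgebra.comul (R := R) v) := by
  show u • f.rTensor C (Coalgebra.comul (R := R) v) = _
  induction f.rTensor C (Coalgebra.comul (R := R) v) using TensorProduct.induction_on with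
  | zero => simp
  | add a b ha hb => simp only [smul_add, mul_add, ha, hb]
  | tmul p q => rw [TensorProduct.smul_tmul', smul_eq_mul, Algebra.TensorProduct.tmul_mul_tmul, _root_.one_mul]

theorem shear_shear (f g : C →ₗ[R] C) (hh : LinearMap.mul' R C ∘ₗ TensorProduct.map g f ∘ₗ Coalgebra.comul =
      Algebra.linearMap R C ∘ₗ Coalgebra.counit) (z : C ⊗[R] C) :
    shear f (shear g z) = z := by
  induction z using TensorProduct.induction_on with
  | zero => simp
  | add a b ha hb => simp only [map_add, ha, hb]
  | tmul u v =>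
    let M : C ⊗[R] (C ⊗[R] C) →ₗ[R] C ⊗[R] C :=
      (LinearMap.mul' R C ∘ₗ TensorProduct.map g f).rTensor C ∘ₗ (TensorProduct.assoc R C C C).symm.toLinearMap
    have key : ∀ w : C ⊗[R] C, shear f ((u ⊗ₜ (1 : C)) * g.rTensor C w) =
        (u ⊗ₜ (1 : C)) * M ((Coalgebra.comul (R := R) (A := C)).lTensor C w) := by
      intro w
      induction w using TensorProduct.induction_on with
      | zero => simp
      | add a b ha hb => simp only [map_add, mul_add, ha, hb]
      | tmul p q =>
        rw [LinearMap.rTensor_tmul, LinearMap.lTensor_tmul, Algebra.TensorProduct.tmul_mul_tmul, _root_.one_mul,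
          shear_tmul]
        induction Coalgebra.comul (R := R) q using TensorProduct.induction_on with
        | zero => simp
        | add a b ha hb => simp only [map_add, tmul_add, mul_add, ha, hb]
        | tmul s t =>
          simp only [M, LinearMap.comp_apply, LinearEquiv.coe_coe, assoc_symm_tmul, LinearMap.rTensor_tmul,
            map_tmul, LinearMap.mul'_apply, Algebra.TensorProduct.tmul_mul_tmul, _root_.one_mul, mul_assoc]
    rw [shear_tmul, key]
    simp only [M, LinearMap.comp_apply, LinearEquiv.coe_coe, Coalgebra.coassoc_symm_apply]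
    rw [← LinearMap.rTensor_comp_apply, LinearMap.comp_assoc, hh, LinearMap.rTensor_comp_apply,
      Coalgebra.rTensor_counit_comul]
    simp

theorem shear_id_antipode (z : C ⊗[R] C) : shear LinearMap.id (shear (HopfAlgebraStruct.antipode (R := R)) z) = z :=
  shear_shear _ _ HopfAlgebra.mul_antipode_rTensor_comul z

theorem shear_antipode_id (z : C ⊗[R] C) : shear (HopfAlgebraStruct.antipode (R := R)) (shear LinearMap.id z) = z :=
  shear_shear _ _ HopfAlgebra.mul_antipode_lTensor_comul z

end Shear

include hb in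
/-- `θ_f` is an integral: `x₁ θ_f(x₂) = θ_f(x)`. -/
theorem hit_theta (f : C →ₗ[R] R) (x : C) : hit (theta b bs f) x = algebraMap R C (theta b bs f x) := by
  let F : C →ₗ[R] C := LinearMap.mulLeft R x ∘ₗ hit f
  let T : C ⊗[R] C →ₗ[C] C ⊗[R] C := shear LinearMap.id
  let U : C ⊗[R] C →ₗ[C] C ⊗[R] C := shear (HopfAlgebraStruct.antipode (R := R))
  let E : C ⊗[R] C →ₗ[C] C ⊗[R] C :=
    LinearMap.mulLeft C (Coalgebra.comul (R := R) x) ∘ₗ (hit f).baseChange C
  have hET : E ∘ₗ T = T ∘ₗ F.baseChange C := by
    refine TensorProduct.AlgebraTensorModule.ext fun u v => ?_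
    simp only [LinearMap.comp_apply, LinearMap.baseChange_tmul, T, shear_tmul, E, LinearMap.mulLeft_apply]
    simp only [LinearMap.rTensor_id, LinearMap.id_apply, F, LinearMap.comp_apply, LinearMap.mulLeft_apply,
      Bialgebra.comul_mul, comul_hit]
    rw [mul_left_comm]
    congr 1
    induction Coalgebra.comul (R := R) v using TensorProduct.induction_on with
    | zero => simp
    | add a b ha hb => simp only [map_add, mul_add, ha, hb]
    | tmul p q => simp only [LinearMap.lTensor_tmul, LinearMap.baseChange_tmul,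
        Algebra.TensorProduct.tmul_mul_tmul, _root_.one_mul]
  have hTU : T ∘ₗ U = LinearMap.id := LinearMap.ext shear_id_antipode
  have hUT : U ∘ₗ T = LinearMap.id := LinearMap.ext shear_antipode_id
  have hE : E = T ∘ₗ (F.baseChange C ∘ₗ U) := by
    rw [← LinearMap.comp_assoc, ← hET, LinearMap.comp_assoc, hTU, LinearMap.comp_id]
  have h1 : tr b bs E = algebraMap R C (theta b bs f x) := by
    rw [hE, tr_comm b bs hb, LinearMap.comp_assoc, hUT, LinearMap.comp_id, tr_baseChange]
    rfl
  rw [← h1, hit_apply]
  simp only [tr, E, LinearMap.comp_apply, LinearMap.baseChange_tmul, LinearMap.mulLeft_apply]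
  induction Coalgebra.comul (R := R) x using TensorProduct.induction_on with
  | zero => simp
  | add p q hp hq => simp only [map_add, add_mul, Finset.sum_add_distrib, hp, hq]
  | tmul p q =>
    simp only [LinearMap.lTensor_tmul, rid_tmul, theta_apply, Algebra.TensorProduct.tmul_mul_tmul, coef_tmul,
      _root_.mul_one, Finset.sum_smul]

include hb in
/-- the integrals generate the counit -/
theorem counit_eq_sum_theta (x : C) :
    ∑ i, theta b bs (bs i) (x * HopfAlgebraStruct.antipode (R := R) (b i)) = Coalgebra.counit (R := R) x := by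
  simp only [theta_apply]
  rw [Finset.sum_comm]
  have key : ∀ z : C ⊗[R] C, ∑ i, HopfAlgebraStruct.antipode (R := R) (b i) * TensorProduct.rid R C ((bs i).lTensor C z) =
      LinearMap.mul' R C ((HopfAlgebraStruct.antipode (R := R)).lTensor C z) := by
    intro z
    induction z using TensorProduct.induction_on with
    | zero => simp
    | add p q hp hq => simp only [map_add, mul_add, Finset.sum_add_distrib, hp, hq]
    | tmul p q =>
      simp only [LinearMap.lTensor_tmul, rid_tmul, LinearMap.mul'_apply]
      conv_rhs => rw [← hb q, map_sum, Finset.mul_sum]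
      refine Finset.sum_congr rfl fun i _ => ?_
      rw [map_smul, mul_smul_comm, mul_smul_comm, mul_comm]
  calc ∑ j, ∑ i, bs j (x * HopfAlgebraStruct.antipode (R := R) (b i) * hit (bs i) (b j))
      = ∑ j, Coalgebra.counit (R := R) (b j) * bs j x := by
        refine Finset.sum_congr rfl fun j _ => ?_
        simp only [mul_assoc, ← map_sum, ← Finset.mul_sum, hit_apply]
        rw [key, HopfAlgebra.mul_antipode_lTensor_comul_apply, ← Algebra.commutes, ← Algebra.smul_def, map_smul,
          smul_eq_mul]
    _ = Coalgebra.counit (R := R) x := by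
        conv_rhs => rw [← hb x, map_sum]
        exact Finset.sum_congr rfl fun j _ => by rw [map_smul, smul_eq_mul, mul_comm]

/-- finitely many integrals generating the counit, in a finite projective commutative Hopf algebra -/
theorem exists_integrals (R C : Type*) [CommRing R] [CommRing C] [HopfAlgebra R C] [Module.Finite R C]
    [Module.Projective R C] :
    ∃ (n : ℕ) (θ : Fin n → C →ₗ[R] R) (φ : Fin n → C),
      (∀ i x, hit (θ i) x = algebraMap R C (θ i x)) ∧ ∀ x, ∑ i, θ i (x * φ i) = Coalgebra.counit (R := R) x := by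
  obtain ⟨n, b, hbs⟩ := Module.Finite.exists_fin' R C
  obtain ⟨s, hs⟩ := Module.projective_lifting_property b LinearMap.id hbs
  let e : Fin n → C := fun i => b (Pi.single i 1)
  let bs : Fin n → C →ₗ[R] R := fun i => LinearMap.proj i ∘ₗ s
  have hb' : ∀ y, ∑ i, bs i y • e i = y := fun y => by
    conv_rhs => rw [← LinearMap.id_apply (R := R) y, ← hs, LinearMap.comp_apply, pi_eq_sum_univ' (s y), map_sum]
    exact Finset.sum_congr rfl fun i _ => by rw [map_smul]; rfl
  exact ⟨n, fun i => theta e bs (bs i), fun i => HopfAlgebraStruct.antipode (R := R) (e i),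
    fun i x => hit_theta e bs hb' (bs i) x, fun x => counit_eq_sum_theta e bs hb' x⟩

end Groth.L15.Galois
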