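import Groth.Agent.L15.Galois.Integral
import Mathlib.RingTheory.HopfAlgebra.Quotient
import Mathlib.Algebra.Algebra.Subalgebra.Lattice
import Mathlib.RingTheory.Flat.FaithfullyFlat.Basic
import Mathlib.RingTheory.Nakayama

/-!
# Finite Hopf–Galois extensions (Kreimer–Takeuchi, commutative case)

If `C` is a finite projective Hopf algebra coacting on a commutative algebra `A` and the Galois map
`A ⊗ A → A ⊗ C` is surjective, then `A` is finite projective over the coinvariants `B` and `A ⊗_B A = A ⊗ C`.
-/

set_option autoImplicit false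

universe u v w

open TensorProduct

noncomputable section

namespace Groth.L15.Galois

variable {R : Type u} {A : Type v} {C : Type w} [CommRing R] [CommRing A] [Algebra R A] [CommRing C] [HopfAlgebra R C]

variable (ρ : A →ₐ[R] A ⊗[R] C)

/-- coassociativity of a coaction -/
def IsCoassoc : Prop :=
  ∀ a, TensorProduct.assoc R A C C (ρ.toLinearMap.rTensor C (ρ a)) =
    (Coalgebra.comul (R := R) (A := C)).lTensor A (ρ a)

/-- counitality of a coaction -/
def IsCounital : Prop :=
  ∀ a, TensorProduct.rid R A ((Coalgebra.counit (R := R) (A := C)).lTensor A (ρ a)) = a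

/-- the coinvariants -/
abbrev coinv : Subalgebra R A :=
  AlgHom.equalizer ρ (Algebra.TensorProduct.includeLeft : A →ₐ[R] A ⊗[R] C)

theorem rid_lTensor_mul (θ : C →ₗ[R] R) (a : A) (w : A ⊗[R] C) :
    TensorProduct.rid R A (θ.lTensor A ((a ⊗ₜ (1 : C)) * w)) = a * TensorProduct.rid R A (θ.lTensor A w) := by
  induction w using TensorProduct.induction_on with
  | zero => simp
  | add p q hp hq => simp only [mul_add, map_add, hp, hq]
  | tmul p q =>
    simp only [Algebra.TensorProduct.tmul_mul_tmul, _root_.one_mul, LinearMap.lTensor_tmul, rid_tmul, mul_smul_comm]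

/-- the Galois map on `A ⊗_R A` -/
def galR : A ⊗[R] A →ₐ[R] A ⊗[R] C :=
  Algebra.TensorProduct.lift (Algebra.TensorProduct.includeLeft (S := R)) ρ fun _ _ => Commute.all _ _

theorem galR_tmul (x y : A) : galR ρ (x ⊗ₜ y) = (x ⊗ₜ (1 : C)) * ρ y := by
  simp [galR]

variable {ρ}

theorem map_coinv (b : coinv ρ) : ρ (b : A) = (b : A) ⊗ₜ 1 := b.2

theorem mem_coinv_trace (hco : IsCoassoc ρ) {θ : C →ₗ[R] R} (hθ : ∀ x, hit θ x = algebraMap R C (θ x)) (a : A) :
    TensorProduct.rid R A (θ.lTensor A (ρ a)) ∈ coinv ρ := by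
  rw [AlgHom.mem_equalizer]
  let G : A ⊗[R] (C ⊗[R] C) →ₗ[R] A ⊗[R] C := ((TensorProduct.rid R C).toLinearMap ∘ₗ θ.lTensor C).lTensor A
  have h1 : ∀ z : A ⊗[R] C, ρ (TensorProduct.rid R A (θ.lTensor A z)) =
      G (TensorProduct.assoc R A C C (ρ.toLinearMap.rTensor C z)) := by
    intro z
    induction z using TensorProduct.induction_on with
    | zero => simp
    | add p q hp hq => simp only [map_add, hp, hq]
    | tmul u v =>
      simp only [LinearMap.lTensor_tmul, rid_tmul, map_smul, LinearMap.rTensor_tmul, AlgHom.toLinearMap_apply]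
      induction ρ u using TensorProduct.induction_on with
      | zero => simp
      | add p q hp hq => simp only [smul_add, add_tmul, map_add, hp, hq]
      | tmul p q =>
        simp only [assoc_tmul, G, LinearMap.lTensor_tmul, LinearMap.comp_apply, LinearEquiv.coe_coe, rid_tmul,
          TensorProduct.tmul_smul]
  have h2 : ∀ z : A ⊗[R] C, G ((Coalgebra.comul (R := R) (A := C)).lTensor A z) =
      TensorProduct.rid R A (θ.lTensor A z) ⊗ₜ (1 : C) := by
    intro z
    induction z using TensorProduct.induction_on with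
    | zero => simp
    | add p q hp hq => simp only [map_add, add_tmul, hp, hq]
    | tmul u v =>
      show u ⊗ₜ hit θ v = _
      rw [hθ, LinearMap.lTensor_tmul, rid_tmul, Algebra.algebraMap_eq_smul_one, TensorProduct.smul_tmul]
  rw [Algebra.TensorProduct.includeLeft_apply, h1, hco, h2]

/-- the trace form `A → B` attached to an integral -/
def trace (hco : IsCoassoc ρ) (θ : C →ₗ[R] R) (hθ : ∀ x, hit θ x = algebraMap R C (θ x)) : A →ₗ[coinv ρ] coinv ρ where
  toFun a := ⟨_, mem_coinv_trace hco hθ a⟩
  map_add' a a' := Subtype.ext (by simp)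
  map_smul' b a := Subtype.ext (by
    show TensorProduct.rid R A (θ.lTensor A (ρ ((b : A) * a))) = (b : A) * TensorProduct.rid R A (θ.lTensor A (ρ a))
    rw [map_mul, map_coinv, rid_lTensor_mul])

theorem trace_coe (hco : IsCoassoc ρ) (θ : C →ₗ[R] R) (hθ : ∀ x, hit θ x = algebraMap R C (θ x)) (a : A) :
    ((trace hco θ hθ a : coinv ρ) : A) = TensorProduct.rid R A (θ.lTensor A (ρ a)) := rfl

/-- a finite dual system of `A` over its coinvariants, with coefficients given by integrals -/
theorem exists_system [Module.Finite R C] [Module.Projective R C] (hco : IsCoassoc ρ) (hcu : IsCounital ρ)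
    (hsurj : Function.Surjective (galR ρ)) :
    ∃ (κ : Type v) (_ : Fintype κ) (θ : κ → C →ₗ[R] R) (hθ : ∀ k x, hit (θ k) x = algebraMap R C (θ k x))
      (x y : κ → A), ∀ a, ∑ k, x k * (trace hco (θ k) (hθ k) (y k * a) : A) = a := by
  obtain ⟨n, θ, φ, hθ, hφ⟩ := exists_integrals R C
  choose z hz using fun i => hsurj ((1 : A) ⊗ₜ[R] φ i)
  choose S hS using fun i => TensorProduct.exists_finset (R := R) (z i)
  classical
  let κ := Σ i : ULift.{v} (Fin n), {p // p ∈ S i.down}
  refine ⟨κ, inferInstance, fun k => θ k.1.down, fun k => hθ k.1.down, fun k => k.2.1.1, fun k => k.2.1.2, fun a => ?_⟩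
  simp only [trace_coe]
  have key : ∀ i, ∑ p ∈ S i, p.1 * TensorProduct.rid R A ((θ i).lTensor A (ρ (p.2 * a))) =
      TensorProduct.rid R A ((θ i).lTensor A (((1 : A) ⊗ₜ[R] φ i) * ρ a)) := fun i => by
    rw [← hz i, hS i, map_sum, Finset.sum_mul, map_sum, map_sum]
    refine Finset.sum_congr rfl fun p _ => ?_
    rw [galR_tmul, mul_assoc, ← map_mul ρ, rid_lTensor_mul]
  calc ∑ k : κ, k.2.1.1 * TensorProduct.rid R A ((θ k.1.down).lTensor A (ρ (k.2.1.2 * a)))
      = ∑ i : Fin n, ∑ p ∈ S i, p.1 * TensorProduct.rid R A ((θ i).lTensor A (ρ (p.2 * a))) := by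
        rw [Fintype.sum_sigma, ← Equiv.sum_comp Equiv.ulift.symm]
        exact Finset.sum_congr rfl fun i _ =>
          Finset.sum_coe_sort (S i) (fun p => p.1 * TensorProduct.rid R A ((θ i).lTensor A (ρ (p.2 * a))))
    _ = a := by
        simp only [key]
        conv_rhs => rw [← hcu a]
        induction ρ a using TensorProduct.induction_on with
        | zero => simp
        | add p q hp hq => simp only [mul_add, map_add, Finset.sum_add_distrib, hp, hq]
        | tmul p q =>
          simp only [Algebra.TensorProduct.tmul_mul_tmul, _root_.one_mul, LinearMap.lTensor_tmul, rid_tmul,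
            ← Finset.sum_smul]
          rw [← hφ q]
          simp only [mul_comm q]

theorem finite_projective [Module.Finite R C] [Module.Projective R C] (hco : IsCoassoc ρ) (hcu : IsCounital ρ)
    (hsurj : Function.Surjective (galR ρ)) :
    Module.Finite (coinv ρ) A ∧ Module.Projective (coinv ρ) A := by
  obtain ⟨κ, _, θ, hθ, x, y, hxy⟩ := exists_system hco hcu hsurj
  let p : (κ → coinv ρ) →ₗ[coinv ρ] A := Fintype.linearCombination (coinv ρ) x
  let s : A →ₗ[coinv ρ] κ → coinv ρ :=
    LinearMap.pi fun k => trace hco (θ k) (hθ k) ∘ₗ LinearMap.mulLeft (coinv ρ) (y k)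
  have hps : p ∘ₗ s = LinearMap.id := LinearMap.ext fun a => by
    conv_rhs => rw [LinearMap.id_apply, ← hxy a]
    simp only [p, s, LinearMap.comp_apply, Fintype.linearCombination_apply, LinearMap.pi_apply,
      LinearMap.mulLeft_apply]
    exact Finset.sum_congr rfl fun k _ => by rw [Subalgebra.smul_def, smul_eq_mul, mul_comm]
  exact ⟨Module.Finite.of_surjective p fun a => ⟨s a, LinearMap.congr_fun hps a⟩, Module.Projective.of_split s p hps⟩

variable (ρ) in
/-- the Galois map `A ⊗_B A → A ⊗ C` -/
def gal : A ⊗[coinv ρ] A →ₐ[A] A ⊗[R] C :=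
  Algebra.TensorProduct.lift (Algebra.ofId A _) ({ ρ with commutes' := fun b => b.2 } : A →ₐ[coinv ρ] A ⊗[R] C)
    fun _ _ => Commute.all _ _

theorem gal_tmul (a a' : A) : gal ρ (a ⊗ₜ a') = (a ⊗ₜ (1 : C)) * ρ a' := by
  rw [gal, Algebra.TensorProduct.lift_tmul]
  rfl

theorem gal_bijective [Module.Finite R C] [Module.Projective R C] (hco : IsCoassoc ρ) (hcu : IsCounital ρ)
    (hsurj : Function.Surjective (galR ρ)) : Function.Bijective (gal ρ) := by
  obtain ⟨κ, _, θ, hθ, x, y, hxy⟩ := exists_system hco hcu hsurj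
  let H : A ⊗[R] C → A ⊗[coinv ρ] A := fun w =>
    ∑ k, TensorProduct.rid R A ((θ k).lTensor A (ρ (y k) * w)) ⊗ₜ[coinv ρ] x k
  have hH : ∀ u, H (gal ρ u) = u := by
    intro u
    induction u using TensorProduct.induction_on with
    | zero => simp [H]
    | add p q hp hq => simp only [H, map_add, mul_add, TensorProduct.add_tmul, Finset.sum_add_distrib] at hp hq ⊢
                       rw [hp, hq]
    | tmul a a' =>
      simp only [H, gal_tmul]
      conv_rhs => rw [← hxy a', tmul_sum]
      refine Finset.sum_congr rfl fun k _ => ?_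
      rw [mul_left_comm, ← map_mul ρ, rid_lTensor_mul, ← trace_coe hco (θ k) (hθ k)]
      rw [mul_comm a, mul_comm (x k), ← smul_eq_mul ((trace hco (θ k) (hθ k) (y k * a') : coinv ρ) : A) a,
        ← smul_eq_mul ((trace hco (θ k) (hθ k) (y k * a') : coinv ρ) : A) (x k)]
      exact TensorProduct.smul_tmul (trace hco (θ k) (hθ k) (y k * a')) a (x k)
  refine ⟨fun p q h => by rw [← hH p, h, hH q], fun w => ?_⟩
  obtain ⟨z, rfl⟩ := hsurj w
  induction z using TensorProduct.induction_on with
  | zero => exact ⟨0, by simp⟩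
  | add p q hp hq =>
    obtain ⟨u, hu⟩ := hp; obtain ⟨v, hv⟩ := hq
    exact ⟨u + v, by rw [map_add, map_add, hu, hv]⟩
  | tmul a a' => exact ⟨a ⊗ₜ a', by rw [gal_tmul, galR_tmul]⟩

theorem faithfullyFlat [Module.Finite R C] [Module.Projective R C] (hco : IsCoassoc ρ) (hcu : IsCounital ρ)
    (hsurj : Function.Surjective (galR ρ)) : Module.FaithfullyFlat (coinv ρ) A := by
  obtain ⟨hfin, hproj⟩ := finite_projective hco hcu hsurj
  refine { submodule_ne_top := fun m hm h => ?_ }
  obtain ⟨r, hr1, hr0⟩ :=
    Submodule.exists_sub_one_mem_and_smul_eq_zero_of_fg_of_le_smul m (⊤ : Submodule (coinv ρ) A) hfin.fg_top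
      (by rw [h])
  have hr : r = 0 := Subtype.ext (by simpa [Subalgebra.smul_def] using hr0 1 Submodule.mem_top)
  exact hm.ne_top ((Ideal.eq_top_iff_one m).mpr (neg_mem_iff.mp (by simpa [hr] using hr1)))

/-! ## Quotient Hopf algebras -/

section Quotient

variable (R) (A : Type v) [CommRing A] [HopfAlgebra R A] (I : Ideal A) [I.IsHopfIdeal R]

/-- `a ↦ a₁ ⊗ π(a₂)` -/
abbrev coact : A →ₐ[R] A ⊗[R] (A ⧸ I) :=
  (Algebra.TensorProduct.map (AlgHom.id R A) (Ideal.Quotient.mkₐ R I)).comp (Bialgebra.comulAlgHom R A)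

theorem coact_apply (a : A) :
    coact R A I a = (Ideal.Quotient.mkₐ R I).toLinearMap.lTensor A (Coalgebra.comul (R := R) a) := rfl

theorem comul_mk (a : A) : Coalgebra.comul (R := R) (Ideal.Quotient.mkₐ R I a) =
    TensorProduct.map (Ideal.Quotient.mkₐ R I).toLinearMap (Ideal.Quotient.mkₐ R I).toLinearMap
      (Coalgebra.comul (R := R) a) :=
  (CoalgHomClass.map_comp_comul_apply (Bialgebra.Quotient.mkBialgHom I) a).symm

theorem counit_mk (a : A) : Coalgebra.counit (R := R) (Ideal.Quotient.mkₐ R I a) = Coalgebra.counit (R := R) a :=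
  CoalgHomClass.counit_comp_apply (Bialgebra.Quotient.mkBialgHom I) a

theorem isCoassoc_coact : IsCoassoc (coact R A I) := by
  intro a
  let π := (Ideal.Quotient.mkₐ R I).toLinearMap
  have h1 : ∀ z : A ⊗[R] A, TensorProduct.assoc R A (A ⧸ I) (A ⧸ I) ((coact R A I).toLinearMap.rTensor (A ⧸ I)
      (π.lTensor A z)) = (TensorProduct.map π π).lTensor A
        (TensorProduct.assoc R A A A ((Coalgebra.comul (R := R) (A := A)).rTensor A z)) := by
    intro z
    induction z using TensorProduct.induction_on with
    | zero => simp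
    | add p q hp hq => simp only [map_add, hp, hq]
    | tmul u v =>
      simp only [LinearMap.lTensor_tmul, LinearMap.rTensor_tmul, AlgHom.toLinearMap_apply, coact_apply]
      induction Coalgebra.comul (R := R) u using TensorProduct.induction_on with
      | zero => simp
      | add p q hp hq => simp only [add_tmul, map_add, hp, hq]
      | tmul p q => rfl
  have h2 : ∀ z : A ⊗[R] A, (Coalgebra.comul (R := R) (A := A ⧸ I)).lTensor A (π.lTensor A z) =
      (TensorProduct.map π π).lTensor A ((Coalgebra.comul (R := R) (A := A)).lTensor A z) := by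
    intro z
    induction z using TensorProduct.induction_on with
    | zero => simp
    | add p q hp hq => simp only [map_add, hp, hq]
    | tmul u v =>
      simp only [LinearMap.lTensor_tmul, π, AlgHom.toLinearMap_apply]
      rw [comul_mk]
  rw [coact_apply, h1, h2, Coalgebra.coassoc_apply]

theorem isCounital_coact : IsCounital (coact R A I) := by
  intro a
  rw [coact_apply, ← LinearMap.lTensor_comp_apply,
    show Coalgebra.counit (R := R) (A := A ⧸ I) ∘ₗ (Ideal.Quotient.mkₐ R I).toLinearMap = Coalgebra.counit from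
      LinearMap.ext (counit_mk R A I), Coalgebra.lTensor_counit_comul]
  simp

theorem galR_coact_surjective : Function.Surjective (galR (coact R A I)) := by
  have key : ∀ a : A, ∃ z, galR (coact R A I) z = (1 : A) ⊗ₜ Ideal.Quotient.mkₐ R I a := by
    intro a
    refine ⟨(HopfAlgebraStruct.antipode (R := R)).rTensor A (Coalgebra.comul (R := R) a), ?_⟩
    have h := shear_id_antipode ((1 : A) ⊗ₜ[R] a)
    rw [shear_tmul, ← Algebra.TensorProduct.one_def, _root_.one_mul] at h
    have h' := congrArg ((Ideal.Quotient.mkₐ R I).toLinearMap.lTensor A) h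
    rw [LinearMap.lTensor_tmul] at h'
    refine Eq.trans ?_ h'
    generalize (HopfAlgebraStruct.antipode (R := R)).rTensor A (Coalgebra.comul (R := R) a) = w
    induction w using TensorProduct.induction_on with
    | zero => simp
    | add p q hp hq => simp only [map_add, hp, hq]
    | tmul u v =>
      rw [galR_tmul, shear_tmul, coact_apply, LinearMap.rTensor_id, LinearMap.id_apply]
      induction Coalgebra.comul (R := R) v using TensorProduct.induction_on with
      | zero => simp
      | add p q hp hq => simp only [map_add, mul_add, hp, hq]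
      | tmul p q => simp [Algebra.TensorProduct.tmul_mul_tmul]
  intro w
  induction w using TensorProduct.induction_on with
  | zero => exact ⟨0, map_zero _⟩
  | add p q hp hq => obtain ⟨u, rfl⟩ := hp; obtain ⟨v, rfl⟩ := hq; exact ⟨u + v, map_add _ _ _⟩
  | tmul a c =>
    obtain ⟨c, rfl⟩ := Ideal.Quotient.mkₐ_surjective R I c
    obtain ⟨z, hz⟩ := key c
    refine ⟨(a ⊗ₜ 1) * z, ?_⟩
    rw [map_mul, hz, galR_tmul, map_one, _root_.mul_one, Algebra.TensorProduct.tmul_mul_tmul, _root_.one_mul,
      _root_.mul_one]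

variable [Module.Finite R (A ⧸ I)] [Module.Projective R (A ⧸ I)]

/-- For a Hopf ideal `I` with `A ⧸ I` finite projective, `A` is finite projective and faithfully flat over the
coinvariants and `A ⊗_B A = A ⊗ A ⧸ I`. -/
theorem main : Module.Finite (coinv (coact R A I)) A ∧ Module.Projective (coinv (coact R A I)) A ∧
    Module.FaithfullyFlat (coinv (coact R A I)) A ∧ Function.Bijective (gal (coact R A I)) :=
  ⟨(finite_projective (isCoassoc_coact R A I) (isCounital_coact R A I) (galR_coact_surjective R A I)).1,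
    (finite_projective (isCoassoc_coact R A I) (isCounital_coact R A I) (galR_coact_surjective R A I)).2,
    faithfullyFlat (isCoassoc_coact R A I) (isCounital_coact R A I) (galR_coact_surjective R A I),
    gal_bijective (isCoassoc_coact R A I) (isCounital_coact R A I) (galR_coact_surjective R A I)⟩

theorem mk_of_mem_coinv {b : A} (hb : b ∈ coinv (coact R A I)) :
    Ideal.Quotient.mk I b = algebraMap R (A ⧸ I) (Coalgebra.counit (R := R) b) := by
  have h := congrArg (fun z => TensorProduct.lid R (A ⧸ I) ((Coalgebra.counit (R := R) (A := A)).rTensor (A ⧸ I) z))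
    ((AlgHom.mem_equalizer _ _ _).mp hb)
  simp only [coact_apply, Algebra.TensorProduct.includeLeft_apply, LinearMap.rTensor_tmul, lid_tmul] at h
  rw [← LinearMap.comp_apply, LinearMap.rTensor_comp_lTensor, ← LinearMap.lTensor_comp_rTensor,
    LinearMap.comp_apply, Coalgebra.rTensor_counit_comul] at h
  simp only [LinearMap.lTensor_tmul, lid_tmul, one_smul, AlgHom.toLinearMap_apply, Ideal.Quotient.mkₐ_eq_mk] at h
  rw [h, Algebra.algebraMap_eq_smul_one]

/-- `I` is generated by the augmentation ideal of the coinvariants. -/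
theorem eq_span : I = Ideal.span {a : A | a ∈ coinv (coact R A I) ∧ Coalgebra.counit (R := R) a = 0} := by
  refine le_antisymm (fun a ha => ?_) (Ideal.span_le.mpr fun b hb => ?_)
  swap
  · rw [SetLike.mem_coe, ← Ideal.Quotient.eq_zero_iff_mem, mk_of_mem_coinv R A I hb.1, hb.2, map_zero]
  obtain ⟨κ, _, θ, hθ, x, y, hxy⟩ :=
    exists_system (isCoassoc_coact R A I) (isCounital_coact R A I) (galR_coact_surjective R A I)
  rw [← hxy a]
  refine sum_mem fun k _ => Ideal.mul_mem_left _ _ (Ideal.subset_span ⟨Subtype.prop _, ?_⟩)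
  rw [trace_coe, coact_apply, ← LinearMap.lTensor_comp_apply]
  have key : ∀ (f : A →ₗ[R] R) (z : A ⊗[R] A),
      Coalgebra.counit (R := R) (TensorProduct.rid R A (f.lTensor A z)) =
        f (TensorProduct.lid R A ((Coalgebra.counit (R := R) (A := A)).rTensor A z)) := by
    intro f z
    induction z using TensorProduct.induction_on with
    | zero => simp
    | add p q hp hq => simp only [map_add, hp, hq]
    | tmul p q => simp [mul_comm]
  rw [key, Coalgebra.rTensor_counit_comul, lid_tmul, one_smul, LinearMap.comp_apply,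
    AlgHom.toLinearMap_apply, Ideal.Quotient.mkₐ_eq_mk, Ideal.Quotient.eq_zero_iff_mem.mpr (I.mul_mem_left _ ha),
    map_zero]

end Quotient

end Groth.L15.Galois
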