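import Groth.Agent.L15.Galois.Hom
import Groth.Prelude.Def_SGA3
import Mathlib.RingTheory.Unramified.Basic
import Mathlib.RingTheory.Ideal.Cotangent

/-!
# Coinvariants of a normal Hopf ideal

If `I` is normal, the coinvariants form a Hopf subalgebra; if moreover `I` is idempotent, they are unramified.
-/

set_option autoImplicit false

universe u v

open TensorProduct WithConv

noncomputable section

namespace Groth.L15.Galois

variable (R : Type u) [CommRing R] (A : Type v) [CommRing A] [HopfAlgebra R A] (I : Ideal A) [I.IsHopfIdeal R]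

abbrev gPt : WithConv (A →ₐ[R] A ⊗[R] (A ⧸ I)) := toConv Algebra.TensorProduct.includeLeft

abbrev hPt : WithConv (A →ₐ[R] A ⊗[R] (A ⧸ I)) :=
  toConv ((Algebra.TensorProduct.includeRight : (A ⧸ I) →ₐ[R] A ⊗[R] (A ⧸ I)).comp (Ideal.Quotient.mkₐ R I))

/-- the left coaction `a ↦ a₂ ⊗ π(a₁)` -/
abbrev coactL : A →ₐ[R] A ⊗[R] (A ⧸ I) := (hPt R A I * gPt R A I).ofConv

theorem gh_eq : (gPt R A I * hPt R A I).ofConv = coact R A I := by
  refine AlgHom.ext fun a => ?_
  show Algebra.TensorProduct.lmul' R (Algebra.TensorProduct.map _ _ (Coalgebra.comul (R := R) a)) = _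
  rw [coact_apply]
  induction Coalgebra.comul (R := R) a using TensorProduct.induction_on with
  | zero => simp
  | add p q hp hq => simp only [map_add, hp, hq]
  | tmul p q => simp [Algebra.TensorProduct.lmul'_apply_tmul, Algebra.TensorProduct.tmul_mul_tmul]

theorem coactL_apply (a : A) : coactL R A I a = TensorProduct.comm R (A ⧸ I) A
    ((Ideal.Quotient.mkₐ R I).toLinearMap.rTensor A (Coalgebra.comul (R := R) a)) := by
  show Algebra.TensorProduct.lmul' R (Algebra.TensorProduct.map _ _ (Coalgebra.comul (R := R) a)) = _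
  induction Coalgebra.comul (R := R) a using TensorProduct.induction_on with
  | zero => simp
  | add p q hp hq => simp only [map_add, hp, hq]
  | tmul p q => simp [Algebra.TensorProduct.lmul'_apply_tmul, Algebra.TensorProduct.tmul_mul_tmul]

/-- normality: conjugates of points of the subgroup by points of the group lie in the subgroup -/
def IsNormal : Prop := ∀ a ∈ I, ((gPt R A I)⁻¹ * hPt R A I * gPt R A I).ofConv a = 0

theorem antipode_antipode (a : A) :
    HopfAlgebra.antipodeAlgHom R A (HopfAlgebra.antipodeAlgHom R A a) = a :=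
  AlgHom.congr_fun (congrArg WithConv.ofConv (inv_inv (toConv (AlgHom.id R A)))) a

variable {R A I}

theorem comp_convMul {C D E : Type*} [CommRing C] [Bialgebra R C] [CommRing D] [Algebra R D] [CommRing E] [Algebra R E]
    (φ : D →ₐ[R] E) (f g : WithConv (C →ₐ[R] D)) :
    φ.comp (f * g).ofConv = (toConv (φ.comp f.ofConv) * toConv (φ.comp g.ofConv)).ofConv := by
  refine AlgHom.ext fun c => ?_
  show φ (Algebra.TensorProduct.lmul' R (Algebra.TensorProduct.map _ _ (Coalgebra.comul (R := R) c))) =
    Algebra.TensorProduct.lmul' R (Algebra.TensorProduct.map _ _ (Coalgebra.comul (R := R) c))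
  induction Coalgebra.comul (R := R) c using TensorProduct.induction_on with
  | zero => simp
  | add p q hp hq => simp only [map_add, hp, hq]
  | tmul p q => simp [Algebra.TensorProduct.lmul'_apply_tmul]

/-- right coinvariants of a normal ideal are left coinvariant -/
theorem coactL_of_mem (hN : IsNormal R A I) {b : A} (hb : b ∈ coinv (coact R A I)) :
    coactL R A I b = b ⊗ₜ 1 := by
  let φ : (A ⧸ I) →ₐ[R] A ⊗[R] (A ⧸ I) := Ideal.Quotient.liftₐ I _ hN
  let θ : A ⊗[R] (A ⧸ I) →ₐ[R] A ⊗[R] (A ⧸ I) :=
    Algebra.TensorProduct.lift Algebra.TensorProduct.includeLeft φ fun _ _ => Commute.all _ _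
  have h1 : toConv (θ.comp (gPt R A I).ofConv) = gPt R A I :=
    WithConv.ofConv_injective (AlgHom.ext fun a => by simp [θ])
  have h2 : toConv (θ.comp (hPt R A I).ofConv) = (gPt R A I)⁻¹ * hPt R A I * gPt R A I :=
    WithConv.ofConv_injective (AlgHom.ext fun a => by
      show θ (1 ⊗ₜ Ideal.Quotient.mk I a) = _
      simp only [θ, Algebra.TensorProduct.lift_tmul, map_one, _root_.one_mul]
      rfl)
  have h : θ.comp (coact R A I) = coactL R A I := by
    rw [← gh_eq, comp_convMul, h1, h2]
    refine congrArg WithConv.ofConv ?_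
    exact ((mul_assoc _ _ _).symm.trans (congrArg (· * gPt R A I) (mul_inv_cancel_left (gPt R A I) (hPt R A I))))
  rw [← h, AlgHom.comp_apply, (AlgHom.mem_equalizer _ _ _).mp hb]
  simp [θ]

/-- the antipode exchanges left and right coactions -/
theorem coact_antipode (a : A) : coact R A I (HopfAlgebra.antipodeAlgHom R A a) =
    Algebra.TensorProduct.map (HopfAlgebra.antipodeAlgHom R A) (HopfAlgebra.antipodeAlgHom R (A ⧸ I))
      (coactL R A I a) := by
  let Ψ : A ⊗[R] (A ⧸ I) →ₐ[R] A ⊗[R] (A ⧸ I) :=
    Algebra.TensorProduct.map (HopfAlgebra.antipodeAlgHom R A) (HopfAlgebra.antipodeAlgHom R (A ⧸ I))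
  have h1 : toConv (Ψ.comp (gPt R A I).ofConv) = (gPt R A I)⁻¹ :=
    WithConv.ofConv_injective (AlgHom.ext fun a => by
      show Ψ (a ⊗ₜ 1) = (HopfAlgebra.antipodeAlgHom R A a) ⊗ₜ 1
      simp [Ψ])
  have h2 : toConv (Ψ.comp (hPt R A I).ofConv) = (hPt R A I)⁻¹ :=
    WithConv.ofConv_injective (AlgHom.ext fun a => by
      show Ψ (1 ⊗ₜ Ideal.Quotient.mkₐ R I a) = 1 ⊗ₜ Ideal.Quotient.mkₐ R I (HopfAlgebra.antipodeAlgHom R A a)
      simp [Ψ])
  have h : Ψ.comp (coactL R A I) = (gPt R A I * hPt R A I)⁻¹.ofConv := by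
    rw [comp_convMul, h1, h2]
    exact congrArg WithConv.ofConv (mul_inv_rev (gPt R A I) (hPt R A I)).symm
  rw [← gh_eq]
  exact (AlgHom.congr_fun h a).symm

theorem antipode_mem (hN : IsNormal R A I) {b : A} (hb : b ∈ coinv (coact R A I)) :
    HopfAlgebraStruct.antipode (R := R) b ∈ coinv (coact R A I) := by
  rw [AlgHom.mem_equalizer]
  show coact R A I (HopfAlgebra.antipodeAlgHom R A b) = _
  rw [coact_antipode, coactL_of_mem hN hb, Algebra.TensorProduct.map_tmul, map_one]
  rfl

theorem mem_of_coactL {a : A} (ha : coactL R A I a = a ⊗ₜ 1) (hN : IsNormal R A I) :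
    a ∈ coinv (coact R A I) := by
  have h : HopfAlgebra.antipodeAlgHom R A a ∈ coinv (coact R A I) := by
    rw [AlgHom.mem_equalizer, coact_antipode, ha, Algebra.TensorProduct.map_tmul, map_one]
    rfl
  rw [← antipode_antipode R A a]
  exact antipode_mem hN h

variable [Module.Finite R (A ⧸ I)] [Module.Projective R (A ⧸ I)] [Module.Finite R A] [Module.Projective R A]

theorem comul_mem (hN : IsNormal R A I) {b : A} (hb : b ∈ coinv (coact R A I)) :
    Coalgebra.comul (R := R) b ∈
      LinearMap.range (TensorProduct.map (coinv (coact R A I)).val.toLinearMap (coinv (coact R A I)).val.toLinearMap) := by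
  set B := coinv (coact R A I) with hBdef
  obtain ⟨h1, h2, h3, h4⟩ := main R A I
  obtain ⟨r, hr⟩ := exists_retraction (C := B) (A := A)
  let P : A →ₗ[R] B := r.restrictScalars R
  have hP : P ∘ₗ B.val.toLinearMap = LinearMap.id := LinearMap.ext fun x => by
    show r (x : A) = x
    rw [show (x : A) = x • (1 : A) by rw [Subalgebra.smul_def, smul_eq_mul, _root_.mul_one], map_smul, hr,
      smul_eq_mul, _root_.mul_one]
  let incl : A →ₗ[R] A ⊗[R] (A ⧸ I) := (Algebra.TensorProduct.includeLeft : A →ₐ[R] A ⊗[R] (A ⧸ I)).toLinearMap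
  let DR : A →ₗ[R] A ⊗[R] (A ⧸ I) := (coact R A I).toLinearMap - incl
  let DL : A →ₗ[R] A ⊗[R] (A ⧸ I) := (coactL R A I).toLinearMap - incl
  have hexR : Function.Exact B.val.toLinearMap DR := fun a =>
    ⟨fun h => ⟨⟨a, (AlgHom.mem_equalizer _ _ _).mpr (sub_eq_zero.mp h)⟩, rfl⟩,
      fun ⟨x, hx⟩ => hx ▸ sub_eq_zero.mpr ((AlgHom.mem_equalizer _ _ _).mp x.2)⟩
  have hexL : Function.Exact B.val.toLinearMap DL := fun a =>
    ⟨fun h => ⟨⟨a, mem_of_coactL (sub_eq_zero.mp h) hN⟩, rfl⟩,
      fun ⟨x, hx⟩ => hx ▸ sub_eq_zero.mpr (coactL_of_mem hN x.2)⟩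
  let π := (Ideal.Quotient.mkₐ R I).toLinearMap
  have hR : DR.lTensor A (Coalgebra.comul (R := R) b) = 0 := by
    simp only [DR, LinearMap.lTensor_sub, LinearMap.sub_apply, sub_eq_zero]
    let G : A ⊗[R] (A ⧸ I) →ₗ[R] A ⊗[R] (A ⊗[R] (A ⧸ I)) :=
      (TensorProduct.assoc R A A (A ⧸ I)).toLinearMap ∘ₗ (Coalgebra.comul (R := R) (A := A)).rTensor (A ⧸ I)
    have e1 : G (coact R A I b) = incl.lTensor A (Coalgebra.comul (R := R) b) := by
      rw [(AlgHom.mem_equalizer _ _ _).mp hb]
      show TensorProduct.assoc R A A (A ⧸ I) ((Coalgebra.comul (R := R) b) ⊗ₜ 1) = _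
      induction Coalgebra.comul (R := R) b using TensorProduct.induction_on with
      | zero => simp
      | add p q hp hq => simp only [add_tmul, map_add, hp, hq]
      | tmul p q => rfl
    have e2 : ∀ z : A ⊗[R] A, G (π.lTensor A z) = (π.lTensor A).lTensor A
        (TensorProduct.assoc R A A A ((Coalgebra.comul (R := R) (A := A)).rTensor A z)) := by
      intro z
      induction z using TensorProduct.induction_on with
      | zero => simp
      | add p q hp hq => simp only [map_add, hp, hq]
      | tmul u v =>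
        simp only [G, LinearMap.comp_apply, LinearEquiv.coe_coe, LinearMap.lTensor_tmul, LinearMap.rTensor_tmul]
        induction Coalgebra.comul (R := R) u using TensorProduct.induction_on with
        | zero => simp
        | add p q hp hq => simp only [add_tmul, map_add, hp, hq]
        | tmul p q => rfl
    rw [← e1, coact_apply, e2, Coalgebra.coassoc_apply, ← LinearMap.lTensor_comp_apply]
    rfl
  have hL : DL.rTensor A (Coalgebra.comul (R := R) b) = 0 := by
    letI : AddCommGroup ((A ⊗[R] (A ⧸ I)) ⊗[R] A) :=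
      TensorProduct.addCommGroup (R := R) (M := A ⊗[R] (A ⧸ I)) (N := A)
    simp only [DL, LinearMap.rTensor_sub]
    refine (LinearMap.sub_apply _ _ _).trans (sub_eq_zero.mpr ?_)
    let G : A ⊗[R] (A ⧸ I) →ₗ[R] (A ⊗[R] (A ⧸ I)) ⊗[R] A :=
      (TensorProduct.comm R (A ⧸ I) A).toLinearMap.rTensor A ∘ₗ (TensorProduct.assoc R (A ⧸ I) A A).symm.toLinearMap ∘ₗ
        (Coalgebra.comul (R := R) (A := A)).lTensor (A ⧸ I) ∘ₗ (TensorProduct.comm R A (A ⧸ I)).toLinearMap
    have e1 : G (coactL R A I b) = incl.rTensor A (Coalgebra.comul (R := R) b) := by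
      rw [coactL_of_mem hN hb]
      show (TensorProduct.comm R (A ⧸ I) A).toLinearMap.rTensor A
        ((TensorProduct.assoc R (A ⧸ I) A A).symm (1 ⊗ₜ Coalgebra.comul (R := R) b)) = _
      induction Coalgebra.comul (R := R) b using TensorProduct.induction_on with
      | zero => simp
      | add p q hp hq => simp only [tmul_add, map_add, hp, hq]
      | tmul p q => rfl
    have e2 : ∀ z : A ⊗[R] A, G (TensorProduct.comm R (A ⧸ I) A (π.rTensor A z)) =
        ((TensorProduct.comm R (A ⧸ I) A).toLinearMap ∘ₗ π.rTensor A).rTensor A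
          ((TensorProduct.assoc R A A A).symm ((Coalgebra.comul (R := R) (A := A)).lTensor A z)) := by
      intro z
      induction z using TensorProduct.induction_on with
      | zero => simp
      | add p q hp hq => simp only [map_add, hp, hq]
      | tmul u v =>
        simp only [G, LinearMap.comp_apply, LinearEquiv.coe_coe, LinearMap.rTensor_tmul, TensorProduct.comm_tmul,
          LinearMap.lTensor_tmul]
        induction Coalgebra.comul (R := R) v using TensorProduct.induction_on with
        | zero => simp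
        | add p q hp hq => simp only [tmul_add, map_add, hp, hq]
        | tmul p q => rfl
    rw [← e1, coactL_apply, e2, Coalgebra.coassoc_symm_apply, ← LinearMap.rTensor_comp_apply]
    congr 2
    exact LinearMap.ext fun a => coactL_apply R A I a
  obtain ⟨w, hw⟩ := ((Module.Flat.lTensor_exact A hexR) _).mp hR
  obtain ⟨w', hw'⟩ := ((Module.Flat.rTensor_exact A hexL) _).mp hL
  refine ⟨TensorProduct.map P P (Coalgebra.comul (R := R) b), ?_⟩
  have hl : (B.val.toLinearMap ∘ₗ P).lTensor A (Coalgebra.comul (R := R) b) = Coalgebra.comul (R := R) b := by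
    rw [← hw, ← LinearMap.lTensor_comp_apply, LinearMap.comp_assoc, hP, LinearMap.comp_id]
  have hr' : (B.val.toLinearMap ∘ₗ P).rTensor A (Coalgebra.comul (R := R) b) = Coalgebra.comul (R := R) b := by
    rw [← hw', ← LinearMap.rTensor_comp_apply, LinearMap.comp_assoc, hP, LinearMap.comp_id]
  rw [← LinearMap.comp_apply, ← TensorProduct.map_comp, ← LinearMap.rTensor_comp_lTensor, LinearMap.comp_apply, hl, hr']

theorem isHopfSubalgebra {A : Type u} [CommRing A] [HopfAlgebra R A] {I : Ideal A} [I.IsHopfIdeal R]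
    [Module.Finite R (A ⧸ I)] [Module.Projective R (A ⧸ I)] [Module.Finite R A] [Module.Projective R A]
    (hN : IsNormal R A I) : SGA3.IsHopfSubalgebra R A (coinv (coact R A I)) :=
  ⟨fun _ hb => comul_mem hN hb, fun _ hb => antipode_mem hN hb⟩

theorem aug_eq_span {A : Type u} [CommRing A] [HopfAlgebra R A] {I : Ideal A} [I.IsHopfIdeal R]
    [Module.Finite R (A ⧸ I)] [Module.Projective R (A ⧸ I)] :
    SGA3.augIdealSpan R A (coinv (coact R A I)) = I :=
  (eq_span R A I).symm

theorem formallyUnramified (hN : IsNormal R A I) (hI : I * I = I) :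
    Algebra.FormallyUnramified R (coinv (coact R A I)) := by
  obtain ⟨h1, h2, h3, h4⟩ := main R A I
  obtain ⟨hb1, hb2⟩ := coinv_finite_projective R A I
  set B := coinv (coact R A I) with hBdef
  let εB : B →ₐ[R] R := (Bialgebra.counitAlgHom R A).comp B.val
  have hIB : I = Ideal.map (algebraMap B A) (RingHom.ker εB) := by
    conv_lhs => rw [eq_span R A I]
    rw [Ideal.map]
    congr 1
    ext a
    exact ⟨fun ⟨ha, ha'⟩ => ⟨⟨a, ha⟩, ha', rfl⟩, fun ⟨x, hx, hxa⟩ => hxa ▸ ⟨x.2, hx⟩⟩
  have hidem : RingHom.ker εB * RingHom.ker εB = RingHom.ker εB := by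
    rw [← Ideal.comap_map_eq_self_of_faithfullyFlat (B := A) (RingHom.ker εB * RingHom.ker εB), Ideal.map_mul,
      ← hIB, hI, hIB, Ideal.comap_map_eq_self_of_faithfullyFlat]
  let j : B ⊗[R] B →ₐ[R] A ⊗[R] A := Algebra.TensorProduct.map B.val B.val
  have hj : Function.Injective j :=
    TensorProduct.map_injective_of_flat_flat B.val.toLinearMap B.val.toLinearMap Subtype.val_injective
      Subtype.val_injective
  let SB : B →ₐ[R] B := ((HopfAlgebra.antipodeAlgHom R A).comp B.val).codRestrict B fun x => antipode_mem hN x.2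
  let ΔB : B →ₐ[R] B ⊗[R] B := (AlgEquiv.ofInjective j hj).symm.toAlgHom.comp
    (((Bialgebra.comulAlgHom R A).comp B.val).codRestrict j.range fun x => by
      obtain ⟨z, hz⟩ := comul_mem hN x.2
      exact ⟨z, hz⟩)
  have hΔB : ∀ x, j (ΔB x) = Coalgebra.comul (R := R) (x : A) := fun x =>
    congrArg Subtype.val ((AlgEquiv.ofInjective j hj).apply_symm_apply _)
  let f : B →ₐ[R] B ⊗[R] B := (Algebra.TensorProduct.map SB (AlgHom.id R B)).comp ΔB
  have hjmap : ∀ z : B ⊗[R] B, j (Algebra.TensorProduct.map SB (AlgHom.id R B) z) =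
      (HopfAlgebraStruct.antipode (R := R)).rTensor A (j z) := fun z => by
    induction z using TensorProduct.induction_on with
    | zero => simp
    | add p q hp hq => simp only [map_add, hp, hq]
    | tmul p q => rfl
  let F : B ⊗[R] B →ₐ[R] B ⊗[R] B :=
    Algebra.TensorProduct.lift (Algebra.TensorProduct.includeLeft) f fun _ _ => Commute.all _ _
  have hjF : ∀ z, j (F z) = shear (HopfAlgebraStruct.antipode (R := R)) (j z) := fun z => by
    induction z using TensorProduct.induction_on with
    | zero => simp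
    | add p q hp hq => simp only [map_add, hp, hq]
    | tmul p q =>
      rw [Algebra.TensorProduct.lift_tmul, map_mul, AlgHom.comp_apply, hjmap, hΔB]
      show _ = shear _ ((p : A) ⊗ₜ (q : A))
      rw [shear_tmul]
      rfl
  have hFΔ : ∀ x : B, F (ΔB x) = (1 : B) ⊗ₜ x := fun x => hj (by
    rw [hjF, hΔB]
    have := shear_antipode_id ((1 : A) ⊗ₜ[R] (x : A))
    rw [shear_tmul, LinearMap.rTensor_id, LinearMap.id_apply, ← Algebra.TensorProduct.one_def, _root_.one_mul] at this
    exact this)
  let K : Ideal (B ⊗[R] B) := KaehlerDifferential.ideal R B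
  have hfK : RingHom.ker εB ≤ K.comap f := fun x hx => by
    rw [Ideal.mem_comap, RingHom.mem_ker]
    apply Subtype.val_injective
    have key : ∀ z : B ⊗[R] B, ((Algebra.TensorProduct.lmul' R (S := B)
        (Algebra.TensorProduct.map SB (AlgHom.id R B) z) : B) : A) =
        LinearMap.mul' R A ((HopfAlgebraStruct.antipode (R := R)).rTensor A (j z)) := fun z => by
      induction z using TensorProduct.induction_on with
      | zero => simp
      | add p q hp hq => simp only [map_add, Subalgebra.coe_add, hp, hq]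
      | tmul p q => rfl
    show ((Algebra.TensorProduct.lmul' R (S := B) (Algebra.TensorProduct.map SB (AlgHom.id R B) (ΔB x)) : B) : A) = _
    rw [key, hΔB, HopfAlgebra.mul_antipode_rTensor_comul_apply]
    rw [show Coalgebra.counit (R := R) (x : A) = 0 from hx, map_zero]
    rfl
  have hfK2 : ∀ x ∈ RingHom.ker εB, f x ∈ K * K := fun x hx => by
    rw [← hidem] at hx
    exact Ideal.mul_mono (Ideal.map_le_iff_le_comap.mpr hfK) (Ideal.map_le_iff_le_comap.mpr hfK)
      (Ideal.map_mul (f : B →+* B ⊗[R] B) _ _ ▸ Ideal.mem_map_of_mem _ hx)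
  have hz : ∀ z : B ⊗[R] B, F z - (TensorProduct.rid R B (εB.toLinearMap.lTensor B z)) ⊗ₜ 1 ∈ K * K := fun z => by
    induction z using TensorProduct.induction_on with
    | zero => simp
    | add p q hp hq => simp only [map_add, add_tmul, add_sub_add_comm]; exact add_mem hp hq
    | tmul p q =>
      rw [show F (p ⊗ₜ q) - (TensorProduct.rid R B (εB.toLinearMap.lTensor B (p ⊗ₜ q))) ⊗ₜ 1 =
        (p ⊗ₜ 1) * f (q - algebraMap R B (εB q)) by
          rw [map_sub, AlgHom.commutes, mul_sub, ← Algebra.commutes, ← Algebra.smul_def]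
          simp [F, smul_tmul']]
      refine Ideal.mul_mem_left _ _ (hfK2 _ ?_)
      rw [RingHom.mem_ker, map_sub, AlgHom.commutes]
      exact sub_self _
  have hK : K ≤ K * K := by
    rw [show K = KaehlerDifferential.ideal R B from rfl, ← KaehlerDifferential.span_range_eq_ideal, Ideal.span_le]
    rintro _ ⟨x, rfl⟩
    rw [KaehlerDifferential.span_range_eq_ideal]
    have h := hz (ΔB x)
    rw [hFΔ] at h
    have e : TensorProduct.rid R B (εB.toLinearMap.lTensor B (ΔB x)) = x := by
      apply Subtype.val_injective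
      have key : ∀ z : B ⊗[R] B, ((TensorProduct.rid R B (εB.toLinearMap.lTensor B z) : B) : A) =
          TensorProduct.rid R A ((Coalgebra.counit (R := R) (A := A)).lTensor A (j z)) := fun z => by
        induction z using TensorProduct.induction_on with
        | zero => simp
        | add p q hp hq => simp only [map_add, Subalgebra.coe_add, hp, hq]
        | tmul p q => rfl
      rw [key, hΔB, Coalgebra.lTensor_counit_comul]
      simp
    rwa [e] at h
  exact ⟨(Ideal.cotangent_subsingleton_iff K).mpr (le_antisymm Ideal.mul_le_left hK)⟩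

end Groth.L15.Galois
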