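import Groth.Agent.L15.Galois.Main
import Mathlib.RingTheory.Spectrum.Prime.FreeLocus
import Mathlib.RingTheory.IsTensorProduct
import Mathlib.RingTheory.Artinian.Module
import Mathlib.RingTheory.LocalRing.Module
import Mathlib.RingTheory.Flat.FaithfullyFlat.Algebra
import Mathlib.Algebra.DirectSum.Module

/-!
# Ranks in a finite Hopf–Galois extension
-/

set_option autoImplicit false

universe u v w

open TensorProduct

noncomputable section

namespace Groth.L15.Galois

section Tower

attribute [local instance] Algebra.TensorProduct.rightAlgebra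

theorem free_of_rankAtStalk_eq {B : Type u} [CommRing B] [Finite (MaximalSpectrum B)] {M : Type v} [AddCommGroup M]
    [Module B M] [Module.Finite B M] [Module.Flat B M] (n : ℕ) (h : ∀ P : PrimeSpectrum B, Module.rankAtStalk M P = n) :
    Module.Free B M :=
  Module.free_of_flat_of_finrank_eq B M n fun P => by
    haveI := P.isMaximal
    letI : Field (B ⧸ P.asIdeal) := Ideal.Quotient.field P.asIdeal
    have e := congrFun (Module.rankAtStalk_eq_finrank_of_free (R := B ⧸ P.asIdeal) (M := (B ⧸ P.asIdeal) ⊗[B] M)) ⊥
    rw [Module.rankAtStalk_baseChange, h] at e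
    exact e.symm

theorem finrank_tower {k : Type u} [Field k] {B : Type v} [CommRing B] [Algebra k B] [Module.Finite k B]
    {M : Type w} [AddCommGroup M] [Module k M] [Module B M] [IsScalarTower k B M] [Module.Finite B M]
    [Module.Flat B M] (n : ℕ) (h : ∀ P : PrimeSpectrum B, Module.rankAtStalk M P = n) :
    Module.finrank k M = n * Module.finrank k B := by
  rcases subsingleton_or_nontrivial B with hB | hB
  · haveI : Subsingleton M := Module.subsingleton B M
    simp [Module.finrank_zero_of_subsingleton]
  haveI : IsArtinianRing B := IsArtinianRing.of_finite k B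
  haveI := free_of_rankAtStalk_eq n h
  obtain ⟨P⟩ : Nonempty (PrimeSpectrum B) := inferInstance
  have hn : Module.finrank B M = n := by
    rw [← h P, Module.rankAtStalk_eq_finrank_of_free]
    rfl
  rw [← Module.finrank_mul_finrank k B M, hn, mul_comm]

/-- if `M` has rank `n` over `B` at all primes above `q`, then `rank_R M = n · rank_R B` at `q` -/
theorem rankAtStalk_tower {R : Type u} [CommRing R] {B : Type v} [CommRing B] [Algebra R B] [Module.Finite R B]
    [Module.Flat R B] {M : Type w} [AddCommGroup M] [Module R M] [Module B M] [IsScalarTower R B M]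
    [Module.Finite B M] [Module.Flat B M] (q : PrimeSpectrum R) (n : ℕ)
    (h : ∀ P : PrimeSpectrum B, P.comap (algebraMap R B) = q → Module.rankAtStalk M P = n) :
    Module.rankAtStalk (R := R) M q = n * Module.rankAtStalk (R := R) B q := by
  haveI : Module.Finite R M := Module.Finite.trans B M
  haveI : Module.Flat R M := Module.Flat.trans R B M
  rw [Module.rankAtStalk_eq q, Module.rankAtStalk_eq q]
  let k := q.asIdeal.ResidueField
  let B' := k ⊗[R] B
  show Module.finrank k (k ⊗[R] M) = n * Module.finrank k B'
  rw [← (Algebra.IsPushout.cancelBaseChange R k B B' M).finrank_eq]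
  refine finrank_tower n fun P => ?_
  rw [Module.rankAtStalk_baseChange]
  refine h _ ?_
  rw [← PrimeSpectrum.comap_comp_apply, ← IsScalarTower.algebraMap_eq, IsScalarTower.algebraMap_eq R k B',
    PrimeSpectrum.comap_comp_apply, Subsingleton.elim (P.comap (algebraMap k B')) ⊥]
  ext r
  simp [k, Ideal.algebraMap_residueField_eq_zero]

end Tower

variable (R : Type u) [CommRing R] (A : Type v) [CommRing A] [HopfAlgebra R A] (I : Ideal A) [I.IsHopfIdeal R]
  [Module.Finite R (A ⧸ I)] [Module.Projective R (A ⧸ I)]

theorem rankAtStalk_coinv (p : PrimeSpectrum (coinv (coact R A I))) :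
    Module.rankAtStalk A p =
      Module.rankAtStalk (R := R) (A ⧸ I) (p.comap (algebraMap R (coinv (coact R A I)))) := by
  obtain ⟨h1, h2, h3, h4⟩ := main R A I
  obtain ⟨P, rfl⟩ := PrimeSpectrum.comap_surjective_of_faithfullyFlat (A := coinv (coact R A I)) (B := A) p
  rw [← Module.rankAtStalk_baseChange, ← PrimeSpectrum.comap_comp_apply, ← IsScalarTower.algebraMap_eq,
    ← Module.rankAtStalk_baseChange]
  exact congrFun (Module.rankAtStalk_eq_of_equiv (AlgEquiv.ofBijective _ h4).toLinearEquiv) P

theorem free_and_finrank [Finite (MaximalSpectrum (coinv (coact R A I)))] [Nontrivial A] (n : ℕ)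
    (hn : ∀ q : PrimeSpectrum R, Module.rankAtStalk (R := R) (A ⧸ I) q = n) :
    Module.Free (coinv (coact R A I)) A ∧ Module.finrank (coinv (coact R A I)) A = n := by
  obtain ⟨h1, h2, h3, h4⟩ := main R A I
  have h : ∀ p, Module.rankAtStalk (R := coinv (coact R A I)) A p = n := fun p => by rw [rankAtStalk_coinv, hn]
  haveI := free_of_rankAtStalk_eq n h
  haveI : Nontrivial (coinv (coact R A I)) := RingHom.domain_nontrivial (algebraMap (coinv (coact R A I)) A)
  obtain ⟨p⟩ : Nonempty (PrimeSpectrum (coinv (coact R A I))) := inferInstance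
  exact ⟨inferInstance, by rw [← h p, Module.rankAtStalk_eq_finrank_of_free]; rfl⟩

/-- the coinvariants are a finite projective direct summand -/
theorem coinv_finite_projective [Module.Finite R A] [Module.Projective R A] :
    Module.Finite R (coinv (coact R A I)) ∧ Module.Projective R (coinv (coact R A I)) := by
  obtain ⟨h1, h2, h3, h4⟩ := main R A I
  obtain ⟨κ, _, θ, hθ, x, y, hxy⟩ :=
    exists_system (isCoassoc_coact R A I) (isCounital_coact R A I) (galR_coact_surjective R A I)
  set B := coinv (coact R A I)
  let t : κ → A →ₗ[B] B := fun k => trace (isCoassoc_coact R A I) (θ k) (hθ k)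
  let p : (κ → A) →ₗ[B] B := ∑ k, t k ∘ₗ LinearMap.proj k
  have hJ : LinearMap.range p = (⊤ : Submodule B B) := by
    by_contra hne
    obtain ⟨m, hm, hle⟩ := Ideal.exists_le_maximal (LinearMap.range p : Ideal B) hne
    refine Module.FaithfullyFlat.submodule_ne_top (M := A) hm (Submodule.eq_top_iff'.mpr fun a => ?_)
    rw [← hxy a]
    refine sum_mem fun k _ => ?_
    rw [mul_comm]
    refine Submodule.smul_mem_smul (hle ?_) Submodule.mem_top
    classical
    refine ⟨Pi.single k (y k * a), ?_⟩
    simp only [p, LinearMap.sum_apply, LinearMap.comp_apply, LinearMap.proj_apply]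
    rw [Finset.sum_eq_single k (fun j _ hj => by rw [Pi.single_eq_of_ne hj, map_zero]) (fun h => absurd (Finset.mem_univ k) h),
      Pi.single_eq_same]
  obtain ⟨s, hs⟩ := Module.projective_lifting_property p LinearMap.id (LinearMap.range_eq_top.mp hJ)
  haveI : Module.Projective R (κ → A) := by
    classical
    exact Module.Projective.of_equiv (DirectSum.linearEquivFunOnFintype R κ fun _ => A)
  exact ⟨Module.Finite.of_surjective (p.restrictScalars R) (fun b => LinearMap.range_eq_top.mp hJ b),
    Module.Projective.of_split (s.restrictScalars R) (p.restrictScalars R) (by rw [← LinearMap.restrictScalars_comp, hs]; rfl)⟩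

theorem rankAtStalk_mul [Module.Finite R A] [Module.Projective R A] (q : PrimeSpectrum R) :
    Module.rankAtStalk (R := R) A q =
      Module.rankAtStalk (R := R) (A ⧸ I) q * Module.rankAtStalk (R := R) (coinv (coact R A I)) q := by
  obtain ⟨h1, h2, h3, h4⟩ := main R A I
  obtain ⟨hb1, hb2⟩ := coinv_finite_projective R A I
  exact rankAtStalk_tower q _ fun P hP => by rw [rankAtStalk_coinv, hP]

end Groth.L15.Galois
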